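import Mathlib

/-!
Semicontinuity of the ranks of the fibres of a linear map.
-/

set_option autoImplicit false
set_option linter.all false

universe u v

open TensorProduct

namespace Groth.Agent.FibreRank

variable {A : Type u} [CommRing A]

/-- The dimension of the fibre of a module at a prime. -/
noncomputable def fiberDim (C : Type v) [AddCommGroup C] [Module A C] (x : PrimeSpectrum A) : ℕ :=
  Module.finrank x.asIdeal.ResidueField (x.asIdeal.ResidueField ⊗[A] C)

/-- Fibre dimensions of finite modules are upper semicontinuous. -/
theorem exists_nhds_fiberDim_le (C : Type v) [AddCommGroup C] [Module A C] [Module.Finite A C]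
    (x : PrimeSpectrum A) : ∃ U : Set (PrimeSpectrum A), IsOpen U ∧ x ∈ U ∧
      ∀ y ∈ U, fiberDim C y ≤ fiberDim C x := by
  classical
  let K := x.asIdeal.ResidueField
  obtain ⟨s, hs⟩ := Module.Finite.fg_top (R := A) (M := C)
  have hspan : Submodule.span K ((fun c => (1 : K) ⊗ₜ[A] c) '' (s : Set C)) = ⊤ := by
    have h : (⊤ : Submodule A C).baseChange K = Submodule.span K ((fun c => (1 : K) ⊗ₜ[A] c) '' (s : Set C)) := by
      rw [← hs, Submodule.baseChange_span]
      rfl
    rw [← h, Submodule.baseChange_top]
  obtain ⟨b, hbs, hbspan, hbind⟩ := exists_linearIndependent K ((fun c => (1 : K) ⊗ₜ[A] c) '' (s : Set C))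
  rw [hspan] at hbspan
  have hbfin : b.Finite := (s.finite_toSet.image _).subset hbs
  choose v _ hv using fun z : b => hbs z.2
  let N : Submodule A C := Submodule.span A (Set.range v)
  have hcard : fiberDim C x = hbfin.toFinset.card := by
    have hfin : Fintype b := hbfin.fintype
    have B : Module.Basis b K (K ⊗[A] C) := Module.Basis.mk hbind (by rw [Subtype.range_coe, hbspan])
    rw [fiberDim, Module.finrank_eq_card_basis B, hbfin.card_toFinset]
  refine ⟨(Module.support A (C ⧸ N))ᶜ, Module.isClosed_support.isOpen_compl, ?_, fun y hy => ?_⟩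
  · rw [Set.mem_compl_iff, Module.mem_support_iff_nontrivial_residueField_tensorProduct,
      not_nontrivial_iff_subsingleton]
    refine subsingleton_of_forall_eq 0 fun z => ?_
    obtain ⟨w, rfl⟩ := LinearMap.lTensor_surjective K (Submodule.mkQ_surjective N) z
    have hw : w ∈ Submodule.span K b := hbspan ▸ Submodule.mem_top
    change N.mkQ.baseChange K w = 0
    induction hw using Submodule.span_induction with
    | mem z hz =>
      rw [show z = (1 : K) ⊗ₜ[A] v ⟨z, hz⟩ from (hv ⟨z, hz⟩).symm, LinearMap.baseChange_tmul,
        Submodule.mkQ_apply,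
        (Submodule.Quotient.mk_eq_zero N).mpr (Submodule.subset_span (Set.mem_range_self _)),
        tmul_zero]
    | zero => rw [map_zero]
    | add a b _ _ ha hb => rw [map_add, ha, hb, add_zero]
    | smul r a _ ha => rw [map_smul, ha, smul_zero]
  · let L := y.asIdeal.ResidueField
    rw [Set.mem_compl_iff, Module.mem_support_iff_nontrivial_residueField_tensorProduct,
      not_nontrivial_iff_subsingleton] at hy
    have hfin : Fintype b := hbfin.fintype
    have hsurj : Function.Surjective (N.subtype.baseChange L) := by
      intro w
      exact ((lTensor_exact L (LinearMap.exact_subtype_mkQ N) (Submodule.mkQ_surjective N)) w).mp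
        (Subsingleton.elim _ _)
    have htop : Submodule.span L (Set.range fun z : b => (1 : L) ⊗ₜ[A] v z) = ⊤ := by
      rw [eq_top_iff, ← LinearMap.range_eq_top.mpr hsurj]
      rintro _ ⟨w, rfl⟩
      induction w using TensorProduct.induction_on with
      | zero => rw [map_zero]; exact zero_mem _
      | tmul l n =>
        obtain ⟨n, hn⟩ := n
        rw [LinearMap.baseChange_tmul, ← mul_one l, ← smul_eq_mul, ← TensorProduct.smul_tmul']
        refine Submodule.smul_mem _ l ?_
        change (1 : L) ⊗ₜ[A] n ∈ _
        induction hn using Submodule.span_induction with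
        | mem z hz =>
          obtain ⟨z, rfl⟩ := hz
          exact Submodule.subset_span ⟨z, rfl⟩
        | zero => rw [tmul_zero]; exact zero_mem _
        | add a b _ _ ha hb => rw [tmul_add]; exact add_mem ha hb
        | smul r a _ ha =>
          rw [tmul_smul]
          exact Submodule.smul_of_tower_mem _ r ha
      | add a b ha hb => rw [map_add]; exact add_mem ha hb
    rw [hcard, hbfin.card_toFinset, fiberDim]
    have := finrank_range_le_card (R := L) (fun z : b => (1 : L) ⊗ₜ[A] v z)
    rwa [Set.finrank, htop, finrank_top] at this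

theorem finrank_range_add {M F : Type v} [AddCommGroup M] [Module A M] [AddCommGroup F] [Module A F]
    [Module.Finite A F] (φ : M →ₗ[A] F) (x : PrimeSpectrum A) :
    Module.finrank x.asIdeal.ResidueField (LinearMap.range (φ.baseChange x.asIdeal.ResidueField)) +
      fiberDim (F ⧸ LinearMap.range φ) x = fiberDim F x := by
  let K := x.asIdeal.ResidueField
  let π := (LinearMap.range φ).mkQ.baseChange K
  have hex := lTensor_exact K (LinearMap.exact_map_mkQ_range φ) (Submodule.mkQ_surjective _)
  have hker : LinearMap.ker π = LinearMap.range (φ.baseChange K) := by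
    ext z
    exact (hex z : _)
  have hsurj : Function.Surjective π := LinearMap.lTensor_surjective K (Submodule.mkQ_surjective _)
  have h := LinearMap.finrank_range_add_finrank_ker π
  rw [LinearMap.range_eq_top.2 hsurj, finrank_top, hker] at h
  rw [add_comm]
  exact h

theorem isOpen_rank_le {M F : Type v} [AddCommGroup M] [Module A M] [AddCommGroup F] [Module A F]
    [Module.Finite A F] [Module.Flat A F] [Module.FinitePresentation A F] (φ : M →ₗ[A] F) (n : ℕ) :
    IsOpen {x : PrimeSpectrum A |
      n ≤ Module.finrank x.asIdeal.ResidueField (LinearMap.range (φ.baseChange x.asIdeal.ResidueField))} := by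
  refine isOpen_iff_forall_mem_open.2 fun x hx => ?_
  obtain ⟨U, hU, hxU, hle⟩ := exists_nhds_fiberDim_le (F ⧸ LinearMap.range φ) x
  refine ⟨U ∩ {y | Module.rankAtStalk (R := A) F y = Module.rankAtStalk (R := A) F x}, fun y ⟨hy1, hy2⟩ => ?_,
    hU.inter (Module.isLocallyConstant_rankAtStalk.isOpen_fiber _), hxU, rfl⟩
  have e1 := finrank_range_add φ y
  have e2 := finrank_range_add φ x
  have h3 := hle y hy1
  have r1 : fiberDim F y = Module.rankAtStalk (R := A) F y := (Module.rankAtStalk_eq y).symm
  have r2 : fiberDim F x = Module.rankAtStalk (R := A) F x := (Module.rankAtStalk_eq x).symm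
  change Module.rankAtStalk (R := A) F y = _ at hy2
  change n ≤ _ at hx
  show n ≤ _
  omega

end Groth.Agent.FibreRank
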