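import Mathlib
import Groth.Agent.FibreRank.Basic
import Groth.Agent.CAlgT1.Misc2

/-!
Projectivity of cokernels over reduced rings.
-/

set_option autoImplicit false
set_option linter.all false

universe u v

open TensorProduct

namespace Groth.Agent.FibreRank

variable {A : Type u} [CommRing A]

theorem fiberDim_congr {C : Type v} {D : Type*} [AddCommGroup C] [Module A C] [AddCommGroup D] [Module A D]
    (e : C ≃ₗ[A] D) (x : PrimeSpectrum A) :
    Module.finrank x.asIdeal.ResidueField (x.asIdeal.ResidueField ⊗[A] C) =
      Module.finrank x.asIdeal.ResidueField (x.asIdeal.ResidueField ⊗[A] D) :=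
  (e.baseChange A x.asIdeal.ResidueField).finrank_eq

/-- A finite module with locally constant fibre dimension over a reduced ring is projective. -/
theorem projective_of_fiberDim [IsReduced A] (C : Type v) [AddCommGroup C] [Module A C]
    [Module.Finite A C] (h : IsLocallyConstant fun x : PrimeSpectrum A => fiberDim C x) :
    Module.Projective A C := by
  obtain ⟨n, f, hf⟩ := Module.Finite.exists_fin' A C
  haveI : Small.{u} C := small_of_surjective hf
  let e : Shrink.{u} C ≃ₗ[A] C := Shrink.linearEquiv A C
  haveI : Module.Finite A (Shrink.{u} C) := Module.Finite.equiv e.symm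
  haveI : Module.Projective A (Shrink.{u} C) := by
    refine (CAlgT1.finite_projective_iff_fibreRank (Shrink.{u} C)).2 ⟨inferInstance, ?_⟩ |>.2
    convert h using 1
    exact funext fun x => fiberDim_congr e x
  exact Module.Projective.of_equiv e

theorem fiberDim_locallyConstant (C : Type v) [AddCommGroup C] [Module A C] [Module.Finite A C]
    [Module.Flat A C] [Module.FinitePresentation A C] :
    IsLocallyConstant fun x : PrimeSpectrum A => fiberDim C x := by
  convert Module.isLocallyConstant_rankAtStalk (R := A) (M := C) using 1
  exact funext fun x => (Module.rankAtStalk_eq x).symm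

variable {M F : Type v} [AddCommGroup M] [Module A M] [AddCommGroup F] [Module A F]

/-- Over a reduced ring, a map to a finite projective module whose fibre ranks are locally constant has
projective cokernel. -/
theorem projective_coker [IsReduced A] [Module.Finite A F] [Module.Flat A F] [Module.FinitePresentation A F]
    (φ : M →ₗ[A] F)
    (h : IsLocallyConstant fun x : PrimeSpectrum A =>
      Module.finrank x.asIdeal.ResidueField (LinearMap.range (φ.baseChange x.asIdeal.ResidueField))) :
    Module.Projective A (F ⧸ LinearMap.range φ) := by
  refine projective_of_fiberDim _ ?_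
  refine IsLocallyConstant.desc _ (fun n : ℕ => (n : ℤ)) ?_ Nat.cast_injective
  have : ((fun n : ℕ => (n : ℤ)) ∘ fun x => fiberDim (F ⧸ LinearMap.range φ) x) =
      fun x : PrimeSpectrum A => (fiberDim F x : ℤ) - (Module.finrank x.asIdeal.ResidueField
        (LinearMap.range (φ.baseChange x.asIdeal.ResidueField)) : ℤ) := by
    funext x
    have := finrank_range_add φ x
    simp only [Function.comp]
    omega
  rw [this]
  exact ((fiberDim_locallyConstant F).comp (fun n : ℕ => (n : ℤ))).comp₂
    (h.comp (fun n : ℕ => (n : ℤ))) (· - ·)

theorem projective_range [Module.Projective A F] (φ : M →ₗ[A] F)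
    [Module.Projective A (F ⧸ LinearMap.range φ)] : Module.Projective A (LinearMap.range φ) := by
  obtain ⟨s, hs⟩ := Module.projective_lifting_property (LinearMap.range φ).mkQ LinearMap.id
    (Submodule.mkQ_surjective _)
  have hmem : ∀ z : F, ((LinearMap.id : F →ₗ[A] F) - s ∘ₗ (LinearMap.range φ).mkQ : F →ₗ[A] F) z ∈ LinearMap.range φ := fun z => by
    have h := LinearMap.congr_fun hs ((LinearMap.range φ).mkQ z)
    simp only [LinearMap.comp_apply, LinearMap.id_apply] at h
    rw [← Submodule.Quotient.mk_eq_zero, ← Submodule.mkQ_apply, LinearMap.sub_apply, map_sub,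
      LinearMap.id_apply, LinearMap.comp_apply, h, sub_self]
  refine Module.Projective.of_split (LinearMap.range φ).subtype (LinearMap.codRestrict _ _ hmem) ?_
  refine LinearMap.ext fun z => Subtype.ext ?_
  simp [(Submodule.Quotient.mk_eq_zero (LinearMap.range φ)).2 z.2]

end Groth.Agent.FibreRank
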